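import Groth.Agent.Surf.K582.PowPts
import Groth.Agent.Models.K382.RatFib
import Groth.Agent.CurvesC.NodalPos
import Mathlib.AlgebraicGeometry.AlgClosed.Basic

/-!
# The covering `z ↦ z ^ n` of a curve of genus zero, totally ramified over two given points
-/

set_option autoImplicit false
universe u

open CategoryTheory CategoryTheory.Limits AlgebraicGeometry TopologicalSpace IsLocalRing

namespace K582.Cover

open Groth.Agent Groth.Agent.CurvesC.ProjSpaceBasic K582.PowMap K582.PowPts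

theorem map_maximalIdeal_of_surjective {R S : Type*} [CommRing R] [CommRing S] [IsLocalRing R] [IsLocalRing S]
    (f : R →+* S) [IsLocalHom f] (hf : Function.Surjective f) : (maximalIdeal R).map f = maximalIdeal S := by
  have h1 : (maximalIdeal S).comap f = maximalIdeal R := ((local_hom_TFAE f).out 0 4).1 (inferInstance : IsLocalHom f)
  rw [← h1, Ideal.map_comap_of_surjective f hf]

theorem map_stalkMap_of_isIso {X Y : Scheme.{u}} (e : X ⟶ Y) [IsIso e] (x : X) :
    (maximalIdeal (Y.presheaf.stalk (e x))).map (e.stalkMap x).hom = maximalIdeal (X.presheaf.stalk x) := by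
  refine map_maximalIdeal_of_surjective _ ?_
  exact (ConcreteCategory.bijective_of_isIso (e.stalkMap x)).2

theorem map_conj {C P : Scheme.{u}} (e : C ≅ P) (ψ : P ⟶ P) (w : C) (n : ℕ)
    (h : (maximalIdeal (P.presheaf.stalk (ψ (e.hom w)))).map (ψ.stalkMap (e.hom w)).hom =
      maximalIdeal (P.presheaf.stalk (e.hom w)) ^ n) :
    (maximalIdeal (C.presheaf.stalk ((e.hom ≫ ψ ≫ e.inv) w))).map ((e.hom ≫ ψ ≫ e.inv).stalkMap w).hom =
      maximalIdeal (C.presheaf.stalk w) ^ n := by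
  have h1 : (e.hom ≫ ψ ≫ e.inv).stalkMap w =
      (e.inv.stalkMap (ψ (e.hom w)) ≫ ψ.stalkMap (e.hom w)) ≫ e.hom.stalkMap w := by
    rw [Scheme.Hom.stalkMap_comp, Scheme.Hom.stalkMap_comp]
    rfl
  have h2 : ((e.hom ≫ ψ ≫ e.inv).stalkMap w).hom =
      ((e.hom.stalkMap w).hom.comp (ψ.stalkMap (e.hom w)).hom).comp (e.inv.stalkMap (ψ (e.hom w))).hom := by
    rw [h1]; rfl
  have h3 := map_stalkMap_of_isIso e.inv (ψ (e.hom w))
  refine (congrArg (fun F => Ideal.map F (maximalIdeal (C.presheaf.stalk (e.inv (ψ (e.hom w)))))) h2).trans ?_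
  refine (Ideal.map_map (e.inv.stalkMap (ψ (e.hom w))).hom
    ((e.hom.stalkMap w).hom.comp (ψ.stalkMap (e.hom w)).hom)).symm.trans ?_
  rw [h3, ← Ideal.map_map, h, Ideal.map_pow, map_stalkMap_of_isIso]

/-- An isomorphism with the projective line moving two given closed points to the standard ones. -/
theorem exists_iso (k : Type u) [Field k] [IsAlgClosed k]
    (C : Scheme.{u}) [C.Over (Spec (CommRingCat.of k))] [IsProper (C ↘ (Spec (CommRingCat.of k)))]
    [IsIntegral C] (hdimC : topologicalKrullDim C = 1)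
    (hC0 : Curv2.genus k C = 0) (a b : C) (ha : IsClosed ({a} : Set C)) (hb : IsClosed ({b} : Set C)) (hab : a ≠ b) :
    ∃ e : C ≅ CohB1.ProjSpace 1 k, e.hom ≫ CohB1.ProjSpace.toSpec 1 k = (C ↘ (Spec (CommRingCat.of k))) ∧
      e.hom a ∉ Dp 1 k 1 ∧ e.hom b ∉ Dp 1 k 0 := by
  obtain ⟨e, he⟩ := K382.RatFib.exists_iso_projLine (C ↘ (Spec (CommRingCat.of k))) hdimC
    (CurvesC.NodalPos.subsingleton_of_genus_zero k C hC0)
  let p := C ↘ (Spec (CommRingCat.of k))
  let s := pointOfClosedPoint p a ha ≫ e.hom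
  let t := pointOfClosedPoint p b hb ≫ e.hom
  have hs : s ≫ CohB1.ProjSpace.toSpec 1 k = 𝟙 _ := by
    rw [Category.assoc, he]; exact pointOfClosedPoint_comp p a ha
  have ht : t ≫ CohB1.ProjSpace.toSpec 1 k = 𝟙 _ := by
    rw [Category.assoc, he]; exact pointOfClosedPoint_comp p b hb
  have hs1 : s (closedPoint k) = e.hom a := by
    rw [Scheme.Hom.comp_apply, pointOfClosedPoint_apply]
  have ht1 : t (closedPoint k) = e.hom b := by
    rw [Scheme.Hom.comp_apply, pointOfClosedPoint_apply]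
  have hst : s ≠ t := by
    intro h
    apply hab
    have h1 : e.hom a = e.hom b := by rw [← hs1, ← ht1, h]
    have h2 := congrArg e.inv h1
    simpa using h2
  obtain ⟨m, hm, hm1, hm2⟩ := K995.P1Pts.exists_move_two s t hs ht hst
  refine ⟨e ≪≫ m, ?_, ?_, ?_⟩
  · rw [Iso.trans_hom, Category.assoc, hm, he]
  · have h1 : (e ≪≫ m).hom a = (K995.P1Pts.std k 0) (closedPoint k) := by
      rw [← hm1, Scheme.Hom.comp_apply, hs1, Iso.trans_hom, Scheme.Hom.comp_apply]
    rw [h1]
    exact std_not_mem (by decide) _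
  · have h1 : (e ≪≫ m).hom b = (K995.P1Pts.std k 1) (closedPoint k) := by
      rw [← hm2, Scheme.Hom.comp_apply, ht1, Iso.trans_hom, Scheme.Hom.comp_apply]
    rw [h1]
    exact std_not_mem (by decide) _

/-- **The covering `z ↦ z ^ n` of a curve of genus zero.** -/
theorem exists_cover (k : Type u) [Field k] [IsAlgClosed k]
    (C : Scheme.{u}) [C.Over (Spec (CommRingCat.of k))] [IsProper (C ↘ (Spec (CommRingCat.of k)))]
    [Smooth (C ↘ (Spec (CommRingCat.of k)))] [IsIntegral C] (hdimC : topologicalKrullDim C = 1)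
    (hC0 : Curv2.genus k C = 0) (a b : C) (ha : IsClosed ({a} : Set C)) (hb : IsClosed ({b} : Set C)) (hab : a ≠ b)
    (n : ℕ) (hn : n ≠ 0) :
    ∃ φ : C ⟶ C, φ ≫ (C ↘ (Spec (CommRingCat.of k))) = (C ↘ (Spec (CommRingCat.of k))) ∧ Surjective φ ∧
      (∃ a' b' : C, (∀ w, φ w = a → w = a') ∧ (∀ w, φ w = b → w = b')) ∧
      ∀ w : C, φ w = a ∨ φ w = b →
        (maximalIdeal (C.presheaf.stalk (φ w))).map (φ.stalkMap w).hom = maximalIdeal (C.presheaf.stalk w) ^ n := by
  obtain ⟨e, he, hea, heb⟩ := exists_iso k C hdimC hC0 a b ha hb hab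
  obtain ⟨ψ, hψ⟩ := exists_isPow k n
  have hinj : Function.Injective e.hom := fun x y h => by simpa using congrArg e.inv h
  have hφ : ∀ w, e.hom ((e.hom ≫ ψ ≫ e.inv) w) = ψ (e.hom w) := by
    intro w
    simp
  have key : ∀ (j : Fin 2) (c : C), e.hom c ∉ Dp 1 k j → ∀ w, (e.hom ≫ ψ ≫ e.inv) w = c → e.hom w ∉ Dp 1 k j := by
    intro j c hc w hw
    rw [← not_mem_iff hψ hn, ← hφ, hw]
    exact hc
  have hinv : e.inv ≫ (C ↘ (Spec (CommRingCat.of k))) = CohB1.ProjSpace.toSpec 1 k := by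
    rw [Iso.inv_comp_eq, he]
  refine ⟨e.hom ≫ ψ ≫ e.inv, ?_, ?_, ⟨a, b, ?_, ?_⟩, ?_⟩
  · rw [Category.assoc, Category.assoc, hinv, hψ.comp_toSpec, he]
  · have := surjective hψ hn
    infer_instance
  · intro w hw
    exact hinj (eq_of_not_mem (key 1 a hea w hw) hea)
  · intro w hw
    exact hinj (eq_of_not_mem (key 0 b heb w hw) heb)
  · intro w hw
    apply map_conj
    rcases hw with hw | hw
    · exact map_maximalIdeal hψ hn (key 1 a hea w hw)
    · exact map_maximalIdeal hψ hn (key 0 b heb w hw)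

end K582.Cover
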