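import Groth.Agent.CohDim.K685.Licht
import Groth.Agent.CohqA.AffVan
import Groth.Agent.Flat2C.GenericReduced

/-!
# The complement of an affine open in a proper irreducible surface is connected
-/

set_option autoImplicit false
universe u
open CategoryTheory CategoryTheory.Limits AlgebraicGeometry TopologicalSpace

namespace K582.ConnCompl

open Groth.Agent

variable {k : Type u} [Field k]

theorem subsingleton_HHon {X : Scheme.{u}} (M : X.Modules) (hM : Coh.IsCoh M) {U : X.Opens}
    (hU : IsAffineOpen U) (n : ℕ) : Subsingleton (Coh.HHon X M U (n + 1)) := by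
  have : Coh.IsQCoh M := hM.1
  have := CohqA.AffVan.subsingleton_HU_of_isAffineOpen M hU n
  exact (CohqA.HOpen.HHonEquiv M U (n + 1)).symm.toEquiv.subsingleton

theorem integral_case {X : Scheme.{u}} (p : X ⟶ Spec (CommRingCat.of k)) [IsProper p]
    [IsIntegral X] (n : ℕ) (hdim : topologicalKrullDim X = (n + 2 : ℕ)) (U : X.Opens)
    (hU : IsAffineOpen U) (hne : (U : Set X).Nonempty) : IsConnected ((U : Set X)ᶜ) := by
  obtain ⟨F, hF, hF2⟩ := K685.Licht.exists_nontrivial_top p (n + 2) hdim
  rw [← not_subsingleton_iff_nontrivial] at hF2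
  constructor
  · by_contra h
    rw [Set.not_nonempty_iff_eq_empty, Set.compl_empty_iff] at h
    apply hF2
    have hU' : U = ⊤ := Opens.ext h
    have h1 := subsingleton_HHon F hF hU (n + 1)
    apply K685.Licht.subsingleton_mv F U U (by rw [sup_idem, hU']) (n + 1)
    · rw [inf_idem]; exact subsingleton_HHon F hF hU n
    · exact h1
    · exact h1
  · rw [isPreconnected_iff_subset_of_disjoint_closed]
    intro u v hu hv hsub hdisj
    by_contra hcon
    rw [not_or, Set.not_subset, Set.not_subset] at hcon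
    obtain ⟨⟨x, hx, hxu⟩, ⟨y, hy, hyv⟩⟩ := hcon
    have hxv : x ∈ v := (hsub hx).resolve_left hxu
    have hyu : y ∈ u := (hsub hy).resolve_right hyv
    let A : X.Opens := ⟨(((U : Set X)ᶜ) ∩ u)ᶜ, (U.2.isClosed_compl.inter hu).isOpen_compl⟩
    let B : X.Opens := ⟨(((U : Set X)ᶜ) ∩ v)ᶜ, (U.2.isClosed_compl.inter hv).isOpen_compl⟩
    have hAB : A ⊔ B = ⊤ := by
      rw [eq_top_iff]
      intro z _
      by_contra hz
      rw [Opens.mem_sup, not_or] at hz
      obtain ⟨hz1, hz2⟩ := hz
      have hz1' : z ∈ ((U : Set X)ᶜ) ∩ u := not_not.mp hz1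
      have hz2' : z ∈ ((U : Set X)ᶜ) ∩ v := not_not.mp hz2
      have : z ∈ ((U : Set X)ᶜ) ∩ (u ∩ v) := ⟨hz1'.1, hz1'.2, hz2'.2⟩
      rw [hdisj] at this
      exact this
    have hAB' : A ⊓ B = U := by
      ext z
      constructor
      · rintro ⟨h1, h2⟩
        by_contra hz
        rcases hsub hz with h | h
        · exact h1 ⟨hz, h⟩
        · exact h2 ⟨hz, h⟩
      · intro hz
        exact ⟨fun h => h.1 hz, fun h => h.1 hz⟩
    have hUA : U ≤ A := hAB' ▸ inf_le_left
    have hUB : U ≤ B := hAB' ▸ inf_le_right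
    apply hF2
    apply K685.Licht.subsingleton_mv F A B hAB (n + 1)
    · rw [hAB']
      exact subsingleton_HHon F hF hU n
    · refine K685.Licht.subsingleton_of_ne_top p (n + 2) hdim.le A ?_ (hne.mono hUA) _
        (PerfA.CohSerre.isCoh_restrict A.ι hF)
      intro h
      have : y ∈ A := by rw [h]; trivial
      exact this ⟨hy, hyu⟩
    · refine K685.Licht.subsingleton_of_ne_top p (n + 2) hdim.le B ?_ (hne.mono hUB) _
        (PerfA.CohSerre.isCoh_restrict B.ι hF)
      intro h
      have : x ∈ B := by rw [h]; trivial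
      exact this ⟨hx, hxv⟩

theorem main {X : Scheme.{u}} (p : X ⟶ Spec (CommRingCat.of k)) [IsProper p]
    [IrreducibleSpace X] (n : ℕ) (hdim : topologicalKrullDim X = (n + 2 : ℕ))
    (U : X.Opens) (hU : IsAffineOpen U) (hne : (U : Set X).Nonempty) :
    IsConnected ((U : Set X)ᶜ) := by
  let i := X.nilradical.subschemeι
  have hred : IsReduced X.nilradical.subscheme :=
    Flat2C.GenericReduced.isReduced_subscheme_nilradical X
  have hsurj : Function.Surjective i := by
    rw [← Set.range_eq_univ, Scheme.IdealSheafData.range_subschemeι, Scheme.support_nilradical]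
    rfl
  have hhomeo : IsHomeomorph i :=
    isHomeomorph_iff_isEmbedding_surjective.mpr ⟨i.isClosedEmbedding.isEmbedding, hsurj⟩
  have hirr : IrreducibleSpace X.nilradical.subscheme := by
    have h1 : IrreducibleSpace X := inferInstance
    let e : X.nilradical.subscheme ≃ₜ X := hhomeo.homeomorph
    exact Function.Surjective.irreducibleSpace e.symm.continuous e.symm.surjective
  have hint : IsIntegral X.nilradical.subscheme := isIntegral_of_irreducibleSpace_of_isReduced _
  have hdim' : topologicalKrullDim X.nilradical.subscheme = (n + 2 : ℕ) := by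
    rw [← hdim]
    exact IsHomeomorph.topologicalKrullDim_eq _ hhomeo
  have hc := integral_case (i ≫ p) n hdim' (i ⁻¹ᵁ U) (hU.preimage i)
    (by obtain ⟨x, hx⟩ := hne; obtain ⟨y, rfl⟩ := hsurj x; exact ⟨y, hx⟩)
  have himg : (U : Set X)ᶜ = i '' ((((i ⁻¹ᵁ U : X.nilradical.subscheme.Opens)) :
      Set X.nilradical.subscheme)ᶜ) := by
    ext x
    constructor
    · intro hx
      obtain ⟨y, rfl⟩ := hsurj x
      exact ⟨y, hx, rfl⟩
    · rintro ⟨y, hy, rfl⟩
      exact hy
  rw [himg]
  exact hc.image _ i.continuous.continuousOn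

end K582.ConnCompl
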