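import Groth.Agent.HypSq.K980.P1Chart
import Groth.Agent.CurvesC.ProjMap
import Groth.Agent.EssDim.K995.P1Pts

/-!
# The morphism `z ↦ z ^ n` of the projective line
-/

set_option autoImplicit false
universe u

open CategoryTheory CategoryTheory.Limits AlgebraicGeometry TopologicalSpace Opposite IsLocalRing

namespace K582.PowMap

open Groth.Agent Groth.Agent.CurvesC Groth.Agent.CurvesC.Gen Groth.Agent.CurvesC.ProjSpaceBasic
  Groth.Agent.CurvesC.ToProj Groth.Agent.CurvesC.ProjMap K980.P1Chart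

variable (k : Type u) [Field k]

theorem map_ratio_smul {i j : Fin 2} {V : (CohB1.ProjSpace 1 k).Opens} (h : V ≤ Dp 1 k i) :
    (CohB1.ProjSpace 1 k).presheaf.map (homOfLE h).op (ratio 1 k i j) • sec (T 1 k i) V = sec (T 1 k j) V := by
  rw [← map_sec (T 1 k i) h, ← map_smul_section, ratio_smul, map_sec]

theorem map_ratio_mul {i j l : Fin 2} {V : (CohB1.ProjSpace 1 k).Opens} (hi : V ≤ Dp 1 k i) (hj : V ≤ Dp 1 k j) :
    (CohB1.ProjSpace 1 k).presheaf.map (homOfLE hi).op (ratio 1 k i l) =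
      (CohB1.ProjSpace 1 k).presheaf.map (homOfLE hi).op (ratio 1 k i j) *
        (CohB1.ProjSpace 1 k).presheaf.map (homOfLE hj).op (ratio 1 k j l) := by
  apply ((isGen_T 1 k i).mono_sec hi).injective
  rw [map_ratio_smul, mul_comm, mul_smul, map_ratio_smul, map_ratio_smul]

/-- `X_j ↦ (X_j / X_i)^n`. -/
noncomputable def pw (n : ℕ) (i : Fin 2) : MvPolynomial (Fin 2) k →+* Γ(CohB1.ProjSpace 1 k, Dp 1 k i) :=
  MvPolynomial.eval₂Hom (struct (CohB1.ProjSpace.toSpec 1 k) _) (fun j => ratio 1 k i j ^ n)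

theorem pw_X (n : ℕ) (i j : Fin 2) : pw k n i (MvPolynomial.X j) = ratio 1 k i j ^ n :=
  MvPolynomial.eval₂Hom_X' _ _ _

theorem pw_C (n : ℕ) (i : Fin 2) (r : k) : pw k n i (MvPolynomial.C r) = struct (CohB1.ProjSpace.toSpec 1 k) _ r :=
  MvPolynomial.eval₂Hom_C _ _ _

theorem isUnit_pw (n : ℕ) (i : Fin 2) : IsUnit (pw k n i (MvPolynomial.X i)) := by
  rw [pw_X, ratio_self, one_pow]
  exact isUnit_one

theorem pw_compare (n : ℕ) (i j : Fin 2) :
    ∃ v : Γ(CohB1.ProjSpace 1 k, Dp 1 k i ⊓ Dp 1 k j), IsUnit v ∧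
      ∀ (m : ℕ) (a : MvPolynomial (Fin 2) k), a ∈ CohB1.polyGrading 1 k m →
        (CohB1.ProjSpace 1 k).presheaf.map (homOfLE inf_le_left).op (pw k n i a) =
          v ^ m * (CohB1.ProjSpace 1 k).presheaf.map (homOfLE inf_le_right).op (pw k n j a) := by
  let X := CohB1.ProjSpace 1 k
  refine ⟨(X.presheaf.map (homOfLE inf_le_left).op (ratio 1 k i j)) ^ n, ?_, ?_⟩
  · apply IsUnit.pow
    apply IsUnit.of_mul_eq_one (X.presheaf.map (homOfLE inf_le_right).op (ratio 1 k j i))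
    rw [← map_ratio_mul, ratio_self, map_one]
  · intro m a ha
    rw [pw, pw]
    have h1 : X.presheaf.map (homOfLE inf_le_left).op (MvPolynomial.eval₂Hom
        (struct (CohB1.ProjSpace.toSpec 1 k) _) (fun j => ratio 1 k i j ^ n) a) =
        MvPolynomial.eval₂ (struct (CohB1.ProjSpace.toSpec 1 k) (Dp 1 k i ⊓ Dp 1 k j))
          (fun l => X.presheaf.map (homOfLE inf_le_left).op (ratio 1 k i l ^ n)) a := by
      rw [MvPolynomial.coe_eval₂Hom]
      refine (MvPolynomial.hom_eval₂ a (struct (CohB1.ProjSpace.toSpec 1 k) _)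
        (X.presheaf.map (homOfLE (inf_le_left : Dp 1 k i ⊓ Dp 1 k j ≤ _)).op).hom
          (fun j => ratio 1 k i j ^ n)).trans ?_
      congr 1
    have h2 : X.presheaf.map (homOfLE inf_le_right).op (MvPolynomial.eval₂Hom
        (struct (CohB1.ProjSpace.toSpec 1 k) _) (fun l => ratio 1 k j l ^ n) a) =
        MvPolynomial.eval₂ (struct (CohB1.ProjSpace.toSpec 1 k) (Dp 1 k i ⊓ Dp 1 k j))
          (fun l => X.presheaf.map (homOfLE inf_le_right).op (ratio 1 k j l ^ n)) a := by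
      rw [MvPolynomial.coe_eval₂Hom]
      refine (MvPolynomial.hom_eval₂ a (struct (CohB1.ProjSpace.toSpec 1 k) _)
        (X.presheaf.map (homOfLE (inf_le_right : Dp 1 k i ⊓ Dp 1 k j ≤ _)).op).hom
          (fun l => ratio 1 k j l ^ n)).trans ?_
      congr 1
    rw [h1, h2, ← eval₂_smul _ _ _ ((MvPolynomial.mem_homogeneousSubmodule _ _).1 ha)]
    congr 1
    funext l
    rw [map_pow, map_pow, ← mul_pow]
    congr 1
    exact map_ratio_mul k _ _

/-- `ψ` is the `n`-th power map. -/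
def IsPow (n : ℕ) (ψ : CohB1.ProjSpace 1 k ⟶ CohB1.ProjSpace 1 k) : Prop :=
  ∀ i, (Dp 1 k i).ι ≫ ψ =
    toProj (CohB1.polyGrading 1 k) (pw k n i) (X_mem 1 k i) one_pos (isUnit_pw k n i)

theorem exists_isPow (n : ℕ) : ∃ ψ : CohB1.ProjSpace 1 k ⟶ CohB1.ProjSpace 1 k, IsPow k n ψ :=
  exists_glue (CohB1.polyGrading 1 k) (fun i => Dp 1 k i) (iSup_Dp 1 k) (fun i => pw k n i)
    (fun i => X_mem 1 k i) (fun _ => one_pos) (fun i => isUnit_pw k n i) (pw_compare k n)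

variable {k} {n : ℕ} {ψ : CohB1.ProjSpace 1 k ⟶ CohB1.ProjSpace 1 k}

theorem IsPow.preimage_Dp (h : IsPow k n ψ) (hn : n ≠ 0) (i : Fin 2) : ψ ⁻¹ᵁ Dp 1 k i = Dp 1 k i := by
  have key : ∀ j (x : CohB1.ProjSpace 1 k), x ∈ Dp 1 k j → (x ∈ ψ ⁻¹ᵁ Dp 1 k i ↔ x ∈ Dp 1 k i) := by
    intro j x hx
    have h1 := toProj_preimage_basicOpen (CohB1.polyGrading 1 k) (pw k n j) (X_mem 1 k j) one_pos
      (isUnit_pw k n j) (X_mem 1 k i) one_pos
    rw [← h j, pw_X, Scheme.basicOpen_pow _ _ (Nat.pos_of_ne_zero hn), basicOpen_ratio] at h1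
    have h2 := congr((⟨x, hx⟩ : Dp 1 k j) ∈ $h1)
    have h3 : (x ∈ ψ ⁻¹ᵁ Dp 1 k i) = (x ∈ Dp 1 k j ⊓ Dp 1 k i) := h2
    rw [h3]
    exact ⟨fun h => h.2, fun h => ⟨hx, h⟩⟩
  ext x
  have hx : x ∈ ⨆ i, Dp 1 k i := iSup_Dp 1 k ▸ trivial
  obtain ⟨j, hj⟩ := Opens.mem_iSup.1 hx
  exact key j x hj

theorem IsPow.appLE_ratio (h : IsPow k n ψ) {i : Fin 2} (j : Fin 2) (hi : Dp 1 k i ≤ ψ ⁻¹ᵁ Dp 1 k i) :
    ψ.appLE (Dp 1 k i) (Dp 1 k i) hi (ratio 1 k i j) = ratio 1 k i j ^ n := by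
  have h1 := appLE_awayToSection (CohB1.polyGrading 1 k) (pw k n i) (X_mem 1 k i) one_pos
    (isUnit_pw k n i) ψ (h i) hi
  have h2 := congr($h1 (HomogeneousLocalization.Away.mk _ (X_mem 1 k i) 1 (MvPolynomial.X j)
    (by rw [one_smul]; exact X_mem 1 k j)))
  refine h2.trans ?_
  apply awayLift_mk_eq
  rw [pw_X, pw_X, ratio_self, one_pow, one_pow, one_mul]

theorem toProj_comp_toSpec (n : ℕ) (i : Fin 2) :
    toProj (CohB1.polyGrading 1 k) (pw k n i) (X_mem 1 k i) one_pos (isUnit_pw k n i) ≫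
      CohB1.ProjSpace.toSpec 1 k = (Dp 1 k i).ι ≫ CohB1.ProjSpace.toSpec 1 k := by
  have h1 := toProj_toSpecZero (CohB1.polyGrading 1 k) (pw k n i) (X_mem 1 k i) one_pos (isUnit_pw k n i)
  have h2 : CohB1.ProjSpace.toSpec 1 k = Proj.toSpecZero (CohB1.polyGrading 1 k) ≫
    Spec.map (CommRingCat.ofHom (algebraMap k (CohB1.polyGrading 1 k 0))) := rfl
  rw [ι_comp_eq]
  nth_rewrite 1 [h2]
  refine (Category.assoc _ _ _).symm.trans ?_
  rw [h1, Category.assoc, ← Spec.map_comp, ← CommRingCat.ofHom_comp]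
  congr 3
  ext r
  exact pw_C k n i r

theorem IsPow.comp_toSpec (h : IsPow k n ψ) :
    ψ ≫ CohB1.ProjSpace.toSpec 1 k = CohB1.ProjSpace.toSpec 1 k := by
  let 𝒰 := (CohB1.ProjSpace 1 k).openCoverOfIsOpenCover (fun i => Dp 1 k i) (iSup_Dp 1 k)
  apply 𝒰.hom_ext
  intro i
  change (Dp 1 k i).ι ≫ ψ ≫ CohB1.ProjSpace.toSpec 1 k = (Dp 1 k i).ι ≫ CohB1.ProjSpace.toSpec 1 k
  rw [reassoc_of% (h i)]
  exact toProj_comp_toSpec n i

end K582.PowMap
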