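import Groth.Agent.Surf.K582.PowMap
import Mathlib.RingTheory.MvPolynomial.Basic
import Mathlib.Algebra.MvPolynomial.Division
import Mathlib.Algebra.MvPolynomial.Expand

/-!
# The points `0` and `∞` of the projective line and the power map
-/

set_option autoImplicit false
universe u

open CategoryTheory CategoryTheory.Limits AlgebraicGeometry TopologicalSpace Opposite IsLocalRing

namespace K582.PowPts

open Groth.Agent Groth.Agent.CurvesC Groth.Agent.CurvesC.Gen Groth.Agent.CurvesC.ProjSpaceBasic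
  Groth.Agent.CurvesC.ToProj Groth.Agent.CurvesC.ProjMap K980.P1Chart K582.PowMap
  Groth.Agent.Lefpen.H720.HomPt

variable {k : Type u} [Field k]

theorem prime_tt (i : Fin 2) : Prime (tt k i) := by
  rw [← polyTo_X]
  exact (MulEquiv.prime_iff (polyEquiv k i)).2 (MvPolynomial.X_prime (R := k) (σ := Fin 1))

theorem isMaximal_span (i : Fin 2) : (Ideal.span {tt k i}).IsMaximal :=
  PrincipalIdealRing.isMaximal_of_irreducible (prime_tt i).irreducible

theorem other_eq {i j : Fin 2} (h : i ≠ j) : i.succAbove 0 = j := by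
  fin_cases i <;> fin_cases j <;> simp_all

theorem mem_of_not_mem {i j : Fin 2} (h : i ≠ j) {x : CohB1.ProjSpace 1 k} (hx : x ∉ Dp 1 k j) : x ∈ Dp 1 k i := by
  have hx' : x ∈ ⨆ i, Dp 1 k i := iSup_Dp 1 k ▸ trivial
  obtain ⟨l, hl⟩ := Opens.mem_iSup.1 hx'
  obtain rfl : l = i := by
    by_contra hne
    have : l = j := by
      fin_cases i <;> fin_cases j <;> fin_cases l <;> simp_all
    exact hx (this ▸ hl)
  exact hl

theorem asIdeal_eq {i j : Fin 2} (h : i ≠ j) {x : CohB1.ProjSpace 1 k} (hx : x ∉ Dp 1 k j) :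
    ((isAffineOpen_Dp 1 k i).primeIdealOf ⟨x, mem_of_not_mem h hx⟩).asIdeal = Ideal.span {tt k i} := by
  symm
  refine (isMaximal_span i).eq_of_le (Ideal.IsPrime.ne_top inferInstance) ?_
  rw [Ideal.span_singleton_le_iff_mem]
  by_contra hmem
  have h1 := (isAffineOpen_Dp 1 k i).fromSpec_preimage_basicOpen (tt k i)
  have h2 : (isAffineOpen_Dp 1 k i).primeIdealOf ⟨x, mem_of_not_mem h hx⟩ ∈
      PrimeSpectrum.basicOpen (tt k i) := hmem
  rw [← h1] at h2
  have h3 : (isAffineOpen_Dp 1 k i).fromSpec ((isAffineOpen_Dp 1 k i).primeIdealOf ⟨x, mem_of_not_mem h hx⟩) ∈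
    (CohB1.ProjSpace 1 k).basicOpen (tt k i) := h2
  rw [(isAffineOpen_Dp 1 k i).fromSpec_primeIdealOf, tt, other_eq h, basicOpen_ratio] at h3
  exact hx h3.2

/-- There is only one point outside a standard open. -/
theorem eq_of_not_mem {j : Fin 2} {x y : CohB1.ProjSpace 1 k} (hx : x ∉ Dp 1 k j) (hy : y ∉ Dp 1 k j) : x = y := by
  obtain ⟨i, h⟩ : ∃ i : Fin 2, i ≠ j := exists_ne j
  have h1 := asIdeal_eq h hx
  have h2 := asIdeal_eq h hy
  have h3 := PrimeSpectrum.ext (h1.trans h2.symm)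
  have h4 := congrArg (isAffineOpen_Dp 1 k i).fromSpec h3
  rwa [(isAffineOpen_Dp 1 k i).fromSpec_primeIdealOf, (isAffineOpen_Dp 1 k i).fromSpec_primeIdealOf] at h4

theorem maximalIdeal_eq_span {X : Scheme.{u}} {U : X.Opens} (hU : IsAffineOpen U) (x : X) (hx : x ∈ U)
    (t : Γ(X, U)) (h : (hU.primeIdealOf ⟨x, hx⟩).asIdeal = Ideal.span {t}) :
    maximalIdeal (X.presheaf.stalk x) = Ideal.span {X.presheaf.germ U x hx t} := by
  let _ : Algebra Γ(X, U) (X.presheaf.stalk x) := TopCat.Presheaf.algebra_section_stalk X.presheaf ⟨x, hx⟩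
  have h1 := hU.isLocalization_stalk ⟨x, hx⟩
  have h2 := IsLocalization.AtPrime.map_eq_maximalIdeal (hU.primeIdealOf ⟨x, hx⟩).asIdeal (X.presheaf.stalk x)
  rw [← h2, h, Ideal.map_span, Set.image_singleton]
  rfl

theorem maximalIdeal_eq {i j : Fin 2} (h : i ≠ j) {x : CohB1.ProjSpace 1 k} (hx : x ∉ Dp 1 k j) :
    maximalIdeal ((CohB1.ProjSpace 1 k).presheaf.stalk x) =
      Ideal.span {(CohB1.ProjSpace 1 k).presheaf.germ (Dp 1 k i) x (mem_of_not_mem h hx) (ratio 1 k i j)} := by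
  refine maximalIdeal_eq_span (isAffineOpen_Dp 1 k i) x (mem_of_not_mem h hx) _ ?_
  rw [asIdeal_eq h hx, tt, other_eq h]

theorem std_not_mem {i j : Fin 2} (hij : i ≠ j) (c : Spec (CommRingCat.of k)) : (K995.P1Pts.std k i) c ∉ Dp 1 k j := by
  intro hmem
  have hv : (Pi.single i 1 : Fin 2 → k) j = 0 := by
    rw [Pi.single_apply, if_neg hij.symm]
  have h0 : (K995.P1Pts.std k i) c =
      Proj.awayι (CohB1.polyGrading 1 k) (MvPolynomial.X i) (Sga5.ProjChart.X_mem 1 k i) Nat.one_pos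
        (Spec.map (CommRingCat.ofHom (VarietyB.ProjHom.awayLift (CohB1.polyGrading 1 k)
          (MvPolynomial.eval (Pi.single i 1 : Fin 2 → k))
            (MvPolynomial.X i) (isUnit_eval (K995.P1Pts.single_ne i)))) c) := by
    have := hpt_eq_away (K995.P1Pts.single_ne (k := k) i)
    rw [K995.P1Pts.std, this]
    exact Scheme.Hom.comp_apply _ _ _
  rw [h0] at hmem
  have h1 := Proj.awayι_preimage_basicOpen (CohB1.polyGrading 1 k) (Sga5.ProjChart.X_mem 1 k i) Nat.one_pos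
    (Sga5.ProjChart.X_mem 1 k j) Nat.one_pos
  have h2 : Spec.map (CommRingCat.ofHom (VarietyB.ProjHom.awayLift (CohB1.polyGrading 1 k)
          (MvPolynomial.eval (Pi.single i 1 : Fin 2 → k))
            (MvPolynomial.X i) (isUnit_eval (K995.P1Pts.single_ne i)))) c ∈
      Proj.awayι (CohB1.polyGrading 1 k) (MvPolynomial.X i) (Sga5.ProjChart.X_mem 1 k i) Nat.one_pos ⁻¹ᵁ
        Proj.basicOpen (CohB1.polyGrading 1 k) (MvPolynomial.X j) := hmem
  rw [h1] at h2
  refine h2 ?_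
  have h3 := VarietyB.ProjHom.awayLift_mk (CohB1.polyGrading 1 k) (MvPolynomial.eval (Pi.single i 1 : Fin 2 → k))
    (isUnit_eval (K995.P1Pts.single_ne i)) (Sga5.ProjChart.X_mem 1 k i) 1 (MvPolynomial.X j ^ 1)
      (by simpa using Sga5.ProjChart.X_mem 1 k j)
  rw [MvPolynomial.eval_X, map_pow, MvPolynomial.eval_X, Pi.single_eq_same, hv, one_pow, mul_one] at h3
  have h4 : VarietyB.ProjHom.awayLift (CohB1.polyGrading 1 k) (MvPolynomial.eval (Pi.single i 1 : Fin 2 → k))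
            (MvPolynomial.X i) (isUnit_eval (K995.P1Pts.single_ne i))
              (HomogeneousLocalization.Away.isLocalizationElem (Sga5.ProjChart.X_mem 1 k i)
                (Sga5.ProjChart.X_mem 1 k j)) = 0 := h3.trans (pow_one 0)
  change VarietyB.ProjHom.awayLift (CohB1.polyGrading 1 k) (MvPolynomial.eval (Pi.single i 1 : Fin 2 → k))
            (MvPolynomial.X i) (isUnit_eval (K995.P1Pts.single_ne i)) _ ∈ c.asIdeal
  rw [h4]
  exact zero_mem _

variable {n : ℕ} {ψ : CohB1.ProjSpace 1 k ⟶ CohB1.ProjSpace 1 k}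

theorem not_mem_iff (h : IsPow k n ψ) (hn : n ≠ 0) (j : Fin 2) (x : CohB1.ProjSpace 1 k) :
    ψ x ∉ Dp 1 k j ↔ x ∉ Dp 1 k j := by
  have h1 := h.preimage_Dp hn j
  have h2 : (ψ x ∈ Dp 1 k j) = (x ∈ ψ ⁻¹ᵁ Dp 1 k j) := rfl
  rw [h2, h1]

theorem map_maximalIdeal (h : IsPow k n ψ) (hn : n ≠ 0) {j : Fin 2} {x : CohB1.ProjSpace 1 k} (hx : x ∉ Dp 1 k j) :
    (maximalIdeal ((CohB1.ProjSpace 1 k).presheaf.stalk (ψ x))).map (ψ.stalkMap x).hom =
      maximalIdeal ((CohB1.ProjSpace 1 k).presheaf.stalk x) ^ n := by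
  obtain ⟨i, hij⟩ : ∃ i : Fin 2, i ≠ j := exists_ne j
  have hx' := (not_mem_iff h hn j x).2 hx
  rw [maximalIdeal_eq hij hx', maximalIdeal_eq hij hx, Ideal.map_span, Set.image_singleton, Ideal.span_singleton_pow]
  congr 2
  have hle : Dp 1 k i ≤ ψ ⁻¹ᵁ Dp 1 k i := (h.preimage_Dp hn i).ge
  have h1 := h.appLE_ratio j hle
  have h2 : ratio 1 k i j ^ n = (CohB1.ProjSpace 1 k).presheaf.map (homOfLE hle).op
      (ψ.app (Dp 1 k i) (ratio 1 k i j)) := by
    rw [← h1]; rfl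
  have h3 := congrArg ((CohB1.ProjSpace 1 k).presheaf.germ (Dp 1 k i) x (mem_of_not_mem hij hx)) h2
  rw [map_pow] at h3
  rw [h3]
  have h4 := TopCat.Presheaf.germ_res_apply (CohB1.ProjSpace 1 k).presheaf (homOfLE hle) x
    (mem_of_not_mem hij hx) (ψ.app (Dp 1 k i) (ratio 1 k i j))
  refine Eq.trans ?_ h4.symm
  exact Scheme.Hom.germ_stalkMap_apply ψ (Dp 1 k i) x _ _

theorem appLE_cst (h : IsPow k n ψ) (i : Fin 2) (hle : Dp 1 k i ≤ ψ ⁻¹ᵁ Dp 1 k i) (a : k) :
    ψ.appLE (Dp 1 k i) (Dp 1 k i) hle (cst k i a) = cst k i a := by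
  rw [cst, Ega3B.KunnethSec.appLE_toSec, h.comp_toSpec]

theorem isIntegral_appLE (h : IsPow k n ψ) (hn : n ≠ 0) (i : Fin 2) (hle : Dp 1 k i ≤ ψ ⁻¹ᵁ Dp 1 k i) :
    (ψ.appLE (Dp 1 k i) (Dp 1 k i) hle).hom.IsIntegral := by
  intro y
  obtain ⟨p, rfl⟩ := (polyTo_bijective k i).2 y
  induction p using MvPolynomial.induction_on with
  | C a =>
    rw [polyTo_C, ← appLE_cst h i hle a]
    exact RingHom.isIntegralElem_map _
  | add p q hp hq =>
    rw [map_add]
    exact hp.add _ hq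
  | mul_X p l hp =>
    rw [map_mul]
    refine hp.mul _ ?_
    obtain rfl : l = 0 := Subsingleton.elim _ _
    rw [polyTo_X]
    have h1 := h.appLE_ratio (i.succAbove 0) hle
    refine ⟨Polynomial.X ^ n - Polynomial.C (tt k i), Polynomial.monic_X_pow_sub_C _ hn, ?_⟩
    rw [Polynomial.eval₂_sub, Polynomial.eval₂_X_pow, Polynomial.eval₂_C, tt]
    exact sub_eq_zero.2 h1.symm

theorem injective_appLE (h : IsPow k n ψ) (hn : n ≠ 0) (i : Fin 2) (hle : Dp 1 k i ≤ ψ ⁻¹ᵁ Dp 1 k i) :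
    Function.Injective (ψ.appLE (Dp 1 k i) (Dp 1 k i) hle).hom := by
  have key : (ψ.appLE (Dp 1 k i) (Dp 1 k i) hle).hom.comp (polyTo k i) =
      (polyTo k i).comp (MvPolynomial.expand n (R := k) (σ := Fin 1)).toRingHom := by
    apply MvPolynomial.ringHom_ext
    · intro a
      simp only [RingHom.comp_apply, polyTo_C, AlgHom.toRingHom_eq_coe, RingHom.coe_coe, MvPolynomial.expand_C]
      exact appLE_cst h i hle a
    · intro l
      obtain rfl : l = 0 := Subsingleton.elim _ _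
      simp only [RingHom.comp_apply, polyTo_X, AlgHom.toRingHom_eq_coe, RingHom.coe_coe, MvPolynomial.expand_X, map_pow]
      exact h.appLE_ratio (i.succAbove 0) hle
  intro x y hxy
  obtain ⟨p, rfl⟩ := (polyTo_bijective k i).2 x
  obtain ⟨q, rfl⟩ := (polyTo_bijective k i).2 y
  have h1 := RingHom.congr_fun key p
  have h2 := RingHom.congr_fun key q
  simp only [RingHom.comp_apply] at h1 h2
  rw [h1, h2] at hxy
  exact congrArg _ (MvPolynomial.expand_injective (Nat.pos_of_ne_zero hn) ((polyTo_bijective k i).1 hxy))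

theorem surjective (h : IsPow k n ψ) (hn : n ≠ 0) : Surjective ψ := by
  constructor
  intro y
  have hy : y ∈ ⨆ i, Dp 1 k i := iSup_Dp 1 k ▸ trivial
  obtain ⟨i, hi⟩ := Opens.mem_iSup.1 hy
  have hU := isAffineOpen_Dp 1 k i
  have hle : Dp 1 k i ≤ ψ ⁻¹ᵁ Dp 1 k i := (h.preimage_Dp hn i).ge
  obtain ⟨w, hw⟩ := (isIntegral_appLE h hn i hle).comap_surjective (injective_appLE h hn i hle) (hU.primeIdealOf ⟨y, hi⟩)
  refine ⟨hU.fromSpec w, ?_⟩
  have h1 := hU.SpecMap_appLE_fromSpec ψ hU hle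
  have h2 : hU.fromSpec (Spec.map (ψ.appLE (Dp 1 k i) (Dp 1 k i) hle) w) = ψ (hU.fromSpec w) := by
    rw [← Scheme.Hom.comp_apply, h1, Scheme.Hom.comp_apply]
  rw [← h2]
  refine Eq.trans ?_ (hU.fromSpec_primeIdealOf ⟨y, hi⟩)
  exact congrArg hU.fromSpec hw

end K582.PowPts
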